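import Groth.Agent.AbVar.K516.PosForm
import Groth.Prelude.Def_EndRing
import Mathlib.Tactic

/-!
# The degree on the endomorphism ring of an elliptic curve over a field

* `Nrm q`: `q` is a multiplicative definite quadratic function on a ring; `Nrm.eq_neg_one`: an involution is `1` or `-1`;
  `Nrm.sq_of_anti`: `F i = - i F` and `i² = -1` imply `F² = - q F`.
* `nrm`: the degree is such a function on `EndAV.End X` for `X` of dimension one; `deg_eq`: `deg f = n` if
  `f^* c = c ^ n` for an ample class `c`.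
-/

set_option autoImplicit false
universe u

open CategoryTheory CategoryTheory.Limits MonoidalCategory CartesianMonoidalCategory AlgebraicGeometry

namespace K869.EllEnd

/-- A multiplicative definite quadratic function on a ring. -/
structure Nrm {R : Type*} [Ring R] (q : R → ℤ) : Prop where
  one : q 1 = 1
  mul : ∀ x y, q (x * y) = q x * q y
  para : ∀ x y, q (x + y) + q (x - y) = 2 * q x + 2 * q y
  eq_zero : ∀ x, q x = 0 → x = 0
  nonneg : ∀ x, 0 ≤ q x

namespace Nrm

variable {R : Type*} [Ring R] {q : R → ℤ} (h : Nrm q)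

include h

theorem zero : q 0 = 0 := by
  have := h.para 0 0
  rw [add_zero, sub_zero] at this
  linarith

theorem neg (x : R) : q (-x) = q x := by
  have := h.para 0 x
  rw [zero_add, zero_sub, h.zero] at this
  linarith

/-- An involution is `1` or `-1`. -/
theorem eq_neg_one {v : R} (h1 : v * v = 1) (h2 : v ≠ 1) : v = -1 := by
  have h3 : (v - 1) * (v + 1) = 0 := by
    rw [sub_mul, mul_add, h1]
    noncomm_ring
  have h4 : q (v - 1) * q (v + 1) = 0 := by rw [← h.mul, h3, h.zero]
  rcases mul_eq_zero.mp h4 with h5 | h5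
  · exact absurd (sub_eq_zero.mp (h.eq_zero _ h5)) h2
  · exact eq_neg_of_add_eq_zero_left (h.eq_zero _ h5)

/-- `q (x + n) = (n - d)²` for `n ≥ -1`. -/
theorem eval {x : R} {d : ℤ} (h0 : q x = d ^ 2) (h1 : q (x - 1) = (d + 1) ^ 2) (n : ℕ) :
    q (x + n) = ((n : ℤ) - d) ^ 2 ∧ q (x + n - 1) = ((n : ℤ) - 1 - d) ^ 2 := by
  induction n with
  | zero =>
    refine ⟨?_, ?_⟩
    · rw [Nat.cast_zero, add_zero, h0]
      push_cast
      ring
    · rw [Nat.cast_zero, add_zero, h1]
      push_cast
      ring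
  | succ n ih =>
    have h2 := h.para (x + n) 1
    rw [ih.1, ih.2, h.one] at h2
    refine ⟨?_, ?_⟩
    · have h3 : x + ((n + 1 : ℕ) : R) = x + n + 1 := by push_cast; rw [add_assoc]
      rw [h3]
      push_cast
      linarith
    · have h3 : x + ((n + 1 : ℕ) : R) - 1 = x + n := by push_cast; abel
      rw [h3, ih.1]
      push_cast
      ring

/-- `F i = - i F` and `i² = -1` imply `F² = - q F`. -/
theorem sq_of_anti {i F : R} (hi : i * i = -1) (hF : F * i = -(i * F)) {d : ℕ} (hd : q F = d) :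
    F * F = -(d : R) := by
  have h1 : q i ≠ 0 := by
    intro h0
    have h2 := h.mul i i
    rw [hi, h.neg, h.one, h0] at h2
    norm_num at h2
  have h2 : i * (F + 1) = (1 - F) * i := by
    rw [mul_add, sub_mul, hF, mul_one, one_mul]
    abel
  have h3 : q (F + 1) = q (F - 1) := by
    have h4 := congrArg q h2
    rw [h.mul, h.mul, mul_comm (q (1 - F))] at h4
    have h5 := mul_left_cancel₀ h1 h4
    rw [h5, ← h.neg, neg_sub]
  have h4 := h.para F 1
  rw [h3, h.one, hd] at h4
  have h5 : q (F - 1) = (d : ℤ) + 1 := by linarith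
  have h6 : q (F * F - 1) = ((d : ℤ) + 1) ^ 2 := by
    have h7 : F * F - 1 = (F + 1) * (F - 1) := by noncomm_ring
    rw [h7, h.mul, h3, h5]
    ring
  have h7 : q (F * F) = (d : ℤ) ^ 2 := by rw [h.mul, hd]; ring
  have h8 := (h.eval h7 h6 d).1
  rw [sub_self, zero_pow two_ne_zero] at h8
  exact eq_neg_of_add_eq_zero_left (h.eq_zero _ h8)

end Nrm

section geometry

open MonObj GrpObj Groth.Agent Groth.Agent.Grpsch.PicGrp Groth.Agent.Grpsch.Cube K516.DegForm K516.HomFin K516.Quad
  K516.DegPoly K516.PosForm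

variable {k : Type u} [Field k] (X : Over (Spec (CommRingCat.of k))) [GrpObj X] [IsProper X.hom]
  [GeometricallyIntegral X.hom] (hX : topologicalKrullDim X.left = ((0 + 1 : ℕ) : WithBot ℕ∞))

/-- The degree of a class on a curve. -/
noncomputable def dl : Additive (Pic X.left) →+ ℤ := ev X 0 hX.le Fin.elim0

omit [GrpObj X] [GeometricallyIntegral X.hom] in
theorem dl_eq (c : Pic X.left) : dl X hX (Additive.ofMul c) = F X 1 hX.le (fun _ => Additive.ofMul c) := by
  change F X 1 hX.le (Fin.cons (Additive.ofMul c) Fin.elim0) = _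
  congr 1
  funext i
  obtain rfl : i = 0 := by ext; omega
  rfl

omit [GrpObj X] [GeometricallyIntegral X.hom] in
theorem dl_pos {L : X.left.Modules} (hL : CohB1.IsAmple L) : 0 < dl X hX (Additive.ofMul (mk L hL.1)) := by
  rw [dl_eq]
  exact F_pos X 1 hX (fun _ => L) (fun _ => hL)

theorem dl_pull (f : X ⟶ X) [IsMonHom f] (c : Pic X.left) :
    dl X hX (Additive.ofMul (pull f.left c)) = deg f * dl X hX (Additive.ofMul c) := by
  rw [dl_eq, dl_eq]
  exact F_pull 1 hX hX f (fun _ => Additive.ofMul c)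

include hX in
/-- The degree from an ample class. -/
theorem deg_eq (f : X ⟶ X) [IsMonHom f] {L : X.left.Modules} (hL : CohB1.IsAmple L) (n : ℕ)
    (h : pull f.left (mk L hL.1) = mk L hL.1 ^ n) : deg f = n := by
  have h1 := dl_pull X hX f (mk L hL.1)
  rw [h, ofMul_pow, map_nsmul, nsmul_eq_mul] at h1
  have h2 := mul_right_cancel₀ (dl_pos X hX hL).ne' h1
  exact_mod_cast h2.symm

include hX in
theorem deg_pos_of_ne_one [IsCommMonObj X] (f : X ⟶ X) [IsMonHom f] (hf : f ≠ 1) : 0 < deg f := by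
  obtain ⟨L, hL, -⟩ := Grpsch.MulFin.exists_symm_ample X
  have h1 := F_pull_pos 0 hX f hf hL Fin.elim0 (fun i => i.elim0)
  have h2 : 0 < dl X hX (Additive.ofMul (pull f.left (mk L hL.1))) := by
    rw [dl_eq]
    convert h1 using 2
    funext i
    obtain rfl : i = 0 := by ext; omega
    rfl
  rw [dl_pull] at h2
  have h3 := dl_pos X hX hL
  have h4 : (0 : ℤ) < deg f := by
    by_contra hc
    rw [not_lt] at hc
    exact absurd h2 (not_lt.mpr (mul_nonpos_of_nonpos_of_nonneg hc h3.le))
  exact_mod_cast h4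

variable [IsCommMonObj X]

include hX in
/-- **The degree is a multiplicative positive definite quadratic function.** -/
theorem nrm : Nrm (R := EndAV.End X) (fun f => (deg f.toHom : ℤ)) := by
  obtain ⟨L, hL, hs⟩ := Grpsch.MulFin.exists_symm_ample X
  set ℓ := mk L hL.1 with hℓ
  have hpos := dl_pos X hX hL
  have key : ∀ f : X ⟶ X, IsMonHom f → 2 * ((deg f : ℤ) * dl X hX (Additive.ofMul ℓ)) =
      dl X hX (Additive.ofMul (D ℓ f f)) := by
    intro f hf
    rw [D_self ℓ hs, ofMul_pow, map_nsmul, nsmul_eq_mul]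
    have h1 : dl X hX (Additive.ofMul (pl f ℓ)) = deg f * dl X hX (Additive.ofMul ℓ) := dl_pull X hX f ℓ
    rw [h1]
    push_cast
    ring
  refine ⟨?_, fun x y => ?_, fun x y => ?_, fun x hx => ?_, fun x => ?_⟩
  · have h1 : deg (𝟙 X) = 1 := deg_eq X hX (𝟙 X) hL 1 (by
      change pull (𝟙 X.left) _ = _
      rw [pull_id, pow_one])
    exact_mod_cast h1
  · change ((deg (y.toHom ≫ x.toHom) : ℕ) : ℤ) = deg x.toHom * deg y.toHom
    have h1 := dl_pull X hX (y.toHom ≫ x.toHom) ℓ
    have h2 : pull (y.toHom ≫ x.toHom).left ℓ = pull y.toHom.left (pull x.toHom.left ℓ) := by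
      rw [Over.comp_left, pull_comp]
    rw [h2, dl_pull, dl_pull, ← _root_.mul_assoc] at h1
    have h3 := mul_right_cancel₀ hpos.ne' h1
    rw [← h3, mul_comm]
  · change ((deg (x.toHom * y.toHom) : ℕ) : ℤ) + (deg (x.toHom / y.toHom) : ℕ) =
      2 * (deg x.toHom : ℕ) + 2 * (deg y.toHom : ℕ)
    have hd : D ℓ (x.toHom * y.toHom) (x.toHom * y.toHom) * D ℓ (x.toHom / y.toHom) (x.toHom / y.toHom) =
        D ℓ x.toHom x.toHom ^ 2 * D ℓ y.toHom y.toHom ^ 2 := by
      have hinv : ∀ a b : X ⟶ X, D ℓ a b⁻¹ = (D ℓ a b)⁻¹ := by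
        intro a b
        have h1 := D_mul_right ℓ a b b⁻¹
        rw [mul_inv_cancel, D_one_right] at h1
        exact eq_inv_of_mul_eq_one_right h1.symm
      rw [div_eq_mul_inv]
      simp only [D_mul_left, D_mul_right, hinv]
      rw [D_comm ℓ y.toHom⁻¹ x.toHom, D_comm ℓ y.toHom⁻¹ y.toHom, D_comm ℓ y.toHom x.toHom]
      simp only [hinv]
      generalize D ℓ x.toHom x.toHom = a
      generalize D ℓ y.toHom y.toHom = b
      generalize D ℓ x.toHom y.toHom = c
      rw [_root_.mul_inv, _root_.inv_inv]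
      have e1 : a * c * (c * b) * (a * c⁻¹ * (c⁻¹ * b)) = (c * c⁻¹) * (c * c⁻¹) * (a ^ 2 * b ^ 2) := by
        rw [pow_two, pow_two]
        ac_rfl
      rw [e1, mul_inv_cancel, _root_.one_mul, _root_.one_mul]
    have h1 := congrArg (fun c => dl X hX (Additive.ofMul c)) hd
    simp only [ofMul_mul, map_add, ofMul_pow, map_nsmul] at h1
    have i1 : IsMonHom (x.toHom * y.toHom) := EndAV.Hom.isMonHom_toHom (x + y)
    have i2 : IsMonHom (x.toHom / y.toHom) := EndAV.Hom.isMonHom_toHom (x - y)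
    rw [← key _ i1, ← key _ i2, ← key x.toHom inferInstance, ← key y.toHom inferInstance] at h1
    simp only [nsmul_eq_mul] at h1
    push_cast at h1
    have h2 : (2 * dl X hX (Additive.ofMul ℓ)) * (((deg (x.toHom * y.toHom) : ℕ) : ℤ) +
        (deg (x.toHom / y.toHom) : ℕ)) = (2 * dl X hX (Additive.ofMul ℓ)) *
          (2 * (deg x.toHom : ℕ) + 2 * (deg y.toHom : ℕ)) := by
      linear_combination h1
    exact mul_left_cancel₀ (by positivity) h2
  · by_contra hne
    have h1 : x.toHom ≠ 1 := fun h => hne (EndAV.End.ext h)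
    have h2 := deg_pos_of_ne_one X hX x.toHom h1
    have h3 : deg x.toHom = 0 := by exact_mod_cast hx
    rw [h3] at h2
    exact lt_irrefl 0 h2
  · exact Int.natCast_nonneg _

end geometry

end K869.EllEnd
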