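import Groth.Agent.AbVar.K869.EllMap
import Groth.Agent.CurvSt.K253.WeiFib
import Groth.Agent.PicF.K416.EllGroup
import Groth.Agent.AbSch.K448.PointedHom
import Groth.Prelude.Def_AgPol
import Groth.Prelude.Def_Red
import Groth.Prelude.Def_EndRing

/-!
# The group law on `y² = x³ - x` over a ring in which `2` is invertible
-/

set_option autoImplicit false
universe u

open CategoryTheory CategoryTheory.Limits MonoidalCategory CartesianMonoidalCategory MonObj GrpObj AlgebraicGeometry

namespace K869.EllGrp

open K869.EllMap K820.EW Groth.Agent Groth.Agent.Grpsch.PicGrp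

instance geometricallyConnected (A : Type u) [CommRing A] : GeometricallyConnected (str (Wei A)) :=
  ⟨fun _ _ t _ _ _ hP => have := (K253.WeiFib.fibre (Wei A) t hP).1; inferInstance⟩

section unit

variable {S T : Scheme.{u}} (t : T ⟶ S)

/-- The unit section of a base change. -/
theorem unit_bc (G : Over S) [GrpObj G] :
    (η[Red.bc t G] : 𝟙_ _ ⟶ Red.bc t G).left ≫ pullback.fst G.hom t =
      t ≫ (η[G] : 𝟙_ (Over S) ⟶ G).left := by
  have h1 : (η[Red.bc t G] : 𝟙_ _ ⟶ Red.bc t G) =
      Functor.LaxMonoidal.ε (Over.pullback t) ≫ (Over.pullback t).map η[G] := rfl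
  rw [h1, Over.comp_left, Category.assoc]
  have h2 : ((Over.pullback t).map η[G]).left ≫ pullback.fst G.hom t =
      pullback.fst (𝟙_ (Over S)).hom t ≫ (η[G] : 𝟙_ (Over S) ⟶ G).left :=
    pullback.lift_fst _ _ _
  rw [h2, ← Category.assoc]
  congr 1
  have h3 : (Functor.LaxMonoidal.ε (Over.pullback t)).left ≫ pullback.snd (𝟙_ (Over S)).hom t = 𝟙 T :=
    Over.w (Functor.LaxMonoidal.ε (Over.pullback t))
  have h4' : pullback.fst (𝟙_ (Over S)).hom t ≫ 𝟙 S = pullback.snd (𝟙_ (Over S)).hom t ≫ t :=
    pullback.condition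
  have h4 : pullback.fst (𝟙_ (Over S)).hom t = pullback.snd (𝟙_ (Over S)).hom t ≫ t :=
    (Category.comp_id (pullback.fst (𝟙_ (Over S)).hom t)).symm.trans h4'
  rw [h4, ← Category.assoc, h3]
  exact Category.id_comp t

end unit

variable (A : Type u) [CommRing A]

/-- The curve as an object over the base. -/
noncomputable abbrev Ex : Over (Spec (CommRingCat.of A)) := Over.mk (str (Wei A))

variable {A} (h2 : IsUnit (2 : A))

include h2 in
theorem smooth : Smooth (str (Wei A)) := K253.WeiSmooth.smooth_str (isUnit_delta h2)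

theorem fibre_dim (s : Spec (CommRingCat.of A)) : topologicalKrullDim ↥((str (Wei A)).fiber s) = 1 :=
  (K253.WeiFib.fibre (Wei A) _ (IsPullback.of_hasPullback (str (Wei A)) ((Spec (CommRingCat.of A)).fromSpecResidueField s))).2.1

include h2 in
theorem isCurve : K333.Fam.IsCurve (str (Wei A)) 1 := by
  have := smooth h2
  refine K333.Fam.isCurve_of_fibres (str (Wei A)) fibre_dim 1 fun s => ?_
  exact (K253.WeiFib.fibre (Wei A) _ (IsPullback.of_hasPullback (str (Wei A)) ((Spec (CommRingCat.of A)).fromSpecResidueField s))).2.2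

include h2 in
theorem isAbSch : AgPol.IsAbSch (Ex A) 1 where
  smooth := smooth h2
  proper := K253.WeiProper.isProper_str (Wei A)
  geomConnected := geometricallyConnected A
  fibreDim s := by
    rw [Nat.cast_one]
    exact fibre_dim s

include h2 in
theorem rel : SmoothOfRelativeDimension 1 (str (Wei A)) := (isCurve h2).rel

/-- The group law. -/
@[reducible]
noncomputable def grp : GrpObj (Ex A) :=
  haveI := rel h2
  GrpObj.ofRepresentableBy (Over.mk (str (Wei A))) (K416.EllGroup.R0F (isCurve h2) (zeroSec A) (zeroSec_str A))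
    (K416.EllGroup.rep (isCurve h2) (zeroSec A) (zeroSec_str A))

/-- The unit section. -/
theorem one_left : letI := grp h2; (η[Ex A] : 𝟙_ _ ⟶ Ex A).left = zeroSec A := by
  let _ := grp h2
  have := rel h2
  let s := K416.EllGroup.sT (zeroSec A) (zeroSec_str A) (𝟙_ (Over (Spec (CommRingCat.of A))))
  have h1 : s * s = s := by
    refine (K416.EllGroup.mul_iff (zeroSec A) (zeroSec_str A) (isCurve h2) s s s).2 ⟨1, ?_⟩
    rw [map_one, _root_.mul_one]
  have h3 : s = 1 := mul_eq_left.mp h1
  have h4 : (1 : 𝟙_ (Over (Spec (CommRingCat.of A))) ⟶ Ex A) = η[Ex A] := by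
    rw [Hom.one_def, toUnit_unique (toUnit _) (𝟙 _), Category.id_comp]
  rw [← h4, ← h3]
  exact Category.id_comp _

theorem isCommMonObj : letI := grp h2; IsCommMonObj (Ex A) := by
  let _ := grp h2
  have : IsProper (Ex A).hom := K253.WeiProper.isProper_str (Wei A)
  have hs : Smooth (Ex A).hom := smooth h2
  have : GeometricallyIntegral (Ex A).hom := K253.WeiFib.geometricallyIntegral (Wei A)
  have : GeometricallyConnected (Ex A).hom := geometricallyConnected A
  exact K448.PointedHom.isCommMonObj (Ex A)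

/-- The monomial endomorphism. -/
noncomputable def ex (d : Dat A A) (hd : d.φ = RingHom.id A) : Ex A ⟶ Ex A :=
  Over.homMk d.mor (by
    change d.mor ≫ str (Wei A) = str (Wei A)
    rw [d.mor_str, hd, CommRingCat.ofHom_id, Spec.map_id, Category.comp_id])

theorem one_ex (d : Dat A A) (hd : d.φ = RingHom.id A) :
    letI := grp h2; η[Ex A] ≫ ex d hd = η[Ex A] := by
  let _ := grp h2
  apply Over.OverMorphism.ext
  change (η[Ex A] : 𝟙_ _ ⟶ Ex A).left ≫ d.mor = (η[Ex A] : 𝟙_ _ ⟶ Ex A).left
  rw [one_left h2, zeroSec_mor, hd, CommRingCat.ofHom_id, Spec.map_id, Category.id_comp]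

theorem isMonHom_ex (d : Dat A A) (hd : d.φ = RingHom.id A) :
    letI := grp h2; IsMonHom (ex d hd) := by
  let _ := grp h2
  have : IsProper (Ex A).hom := K253.WeiProper.isProper_str (Wei A)
  have hs : Smooth (Ex A).hom := smooth h2
  have : GeometricallyIntegral (Ex A).hom := K253.WeiFib.geometricallyIntegral (Wei A)
  have : GeometricallyConnected (Ex A).hom := geometricallyConnected A
  exact K448.PointedHom.isMonHom_of_pointed _ (one_ex h2 d hd)

theorem ex_comp (d e : Dat A A) (hd : d.φ = RingHom.id A) (he : e.φ = RingHom.id A) :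
    ex e he ≫ ex d hd = ex (d.comp e) (by
      change e.φ.comp d.φ = _
      rw [hd, he, RingHom.id_comp]) := by
  apply Over.OverMorphism.ext
  exact Dat.mor_comp d e

theorem ex_id (h : (Dat.idD A).φ = RingHom.id A) : ex (Dat.idD A) h = 𝟙 _ := by
  apply Over.OverMorphism.ext
  exact Dat.mor_idD A

theorem ex_congr {d e : Dat A A} (hd : d.φ = RingHom.id A) (he : e.φ = RingHom.id A) (hn : d.n = e.n)
    (hc : d.c = e.c) : ex d hd = ex e he := by
  have h : d = e := Dat.ext (hd.trans he.symm) hn hc
  subst h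
  rfl

section bc

variable {B : Type u} [CommRing B] (φ : A →+* B)

/-- Base change of the curve. -/
noncomputable def th : Ex B ≅ Red.bc (Spec.map (CommRingCat.ofHom φ)) (Ex A) :=
  Over.isoMk ((isPullback_bcD φ).isoPullback) ((isPullback_bcD φ).isoPullback_hom_snd)

theorem th_fst : (th φ).hom.left ≫ pullback.fst (Ex A).hom (Spec.map (CommRingCat.ofHom φ)) = (bcD φ).mor :=
  (isPullback_bcD φ).isoPullback_hom_fst

theorem isMonHom_th (h2' : IsUnit (2 : B)) : letI := grp h2; letI := grp h2'; IsMonHom (th φ).hom := by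
  let _ := grp h2
  let _ := grp h2'
  have : IsProper (Ex B).hom := K253.WeiProper.isProper_str (Wei B)
  have hs : Smooth (Ex B).hom := smooth h2'
  have : GeometricallyIntegral (Ex B).hom := K253.WeiFib.geometricallyIntegral (Wei B)
  have : GeometricallyConnected (Ex B).hom := geometricallyConnected B
  have : IsProper (Ex A).hom := K253.WeiProper.isProper_str (Wei A)
  have : IsSeparated (Red.bc (Spec.map (CommRingCat.ofHom φ)) (Ex A)).hom :=
    inferInstanceAs (IsSeparated (pullback.snd (Ex A).hom (Spec.map (CommRingCat.ofHom φ))))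
  refine K448.PointedHom.isMonHom_of_pointed _ ?_
  apply Over.OverMorphism.ext
  apply pullback.hom_ext
  · change (((η[Ex B] : 𝟙_ _ ⟶ Ex B).left ≫ (th φ).hom.left) ≫
        pullback.fst (Ex A).hom (Spec.map (CommRingCat.ofHom φ)) =
      (η[Red.bc (Spec.map (CommRingCat.ofHom φ)) (Ex A)] : 𝟙_ _ ⟶ _).left ≫
        pullback.fst (Ex A).hom (Spec.map (CommRingCat.ofHom φ)))
    rw [unit_bc, one_left h2, one_left h2', Category.assoc, th_fst, zeroSec_mor]
    rfl
  · exact (Over.w _).trans (Over.w _).symm

/-- Compatibility of the monomial endomorphisms with base change. -/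
theorem th_ex (d : Dat A A) (hd : d.φ = RingHom.id A) (e : Dat B B) (he : e.φ = RingHom.id B) (hn : d.n = e.n)
    (hc : φ d.c = e.c) :
    (th φ).hom ≫ (Over.pullback (Spec.map (CommRingCat.ofHom φ))).map (ex d hd) = ex e he ≫ (th φ).hom := by
  apply Over.OverMorphism.ext
  apply pullback.hom_ext
  · change ((th φ).hom.left ≫ ((Over.pullback (Spec.map (CommRingCat.ofHom φ))).map (ex d hd)).left) ≫
        pullback.fst (Ex A).hom (Spec.map (CommRingCat.ofHom φ)) =
      (e.mor ≫ (th φ).hom.left) ≫ pullback.fst (Ex A).hom (Spec.map (CommRingCat.ofHom φ))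
    have h1 : ((Over.pullback (Spec.map (CommRingCat.ofHom φ))).map (ex d hd)).left ≫
        pullback.fst (Ex A).hom (Spec.map (CommRingCat.ofHom φ)) =
        pullback.fst (Ex A).hom (Spec.map (CommRingCat.ofHom φ)) ≫ d.mor := pullback.lift_fst _ _ _
    rw [Category.assoc, h1, reassoc_of% (th_fst φ), Category.assoc, th_fst, Dat.mor_comp, Dat.mor_comp]
    congr 1
    refine Dat.ext ?_ ?_ ?_
    · change φ.comp d.φ = e.φ.comp φ
      rw [hd, he, RingHom.comp_id, RingHom.id_comp]
    · change 1 * d.n = e.n * 1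
      rw [_root_.one_mul, _root_.mul_one, hn]
    · change φ d.c * 1 ^ d.n = e.φ 1 * e.c ^ 1
      rw [one_pow, _root_.mul_one, map_one, _root_.one_mul, pow_one, hc]
  · exact (Over.w _).trans (Over.w _).symm

end bc

end K869.EllGrp
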