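import Groth.Agent.VarietyA.Glue2
import Groth.Agent.Ega2.IsoCocycle
import Groth.Agent.Grpsch.PicGrp

/-!
# Invertible modules glued along two opens

`Tr U V g M`: generators `e₀` of `M` over `U` and `e₁` over `V` with `e₀ = g e₁` on `U ⊓ V`.
-/

set_option autoImplicit false
universe u

open CategoryTheory CategoryTheory.Limits AlgebraicGeometry TopologicalSpace Opposite

namespace K869.TwoLine

open Groth.Agent Groth.Agent.Fdesc.LocGen Groth.Agent.Grpsch.PicGrp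

variable {X Y : Scheme.{u}}

/-- `M` is glued from the function `g`. -/
structure Tr (U V : X.Opens) (g : Γ(X, U ⊓ V)) (M : X.Modules) where
  /-- the generator over `U` -/
  e₀ : Γ(M, U)
  /-- the generator over `V` -/
  e₁ : Γ(M, V)
  gen₀ : IsGen e₀
  gen₁ : IsGen e₁
  rel : res M inf_le_left e₀ = g • res M inf_le_right e₁

theorem exists_tr (U V : X.Opens) (hUV : U ⊔ V = ⊤) (g : Γ(X, U ⊓ V)) (hg : IsUnit g) :
    ∃ M : X.Modules, PicF.IsInvertible M ∧ Nonempty (Tr U V g M) := by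
  obtain ⟨M, e₀, e₁, hM, h0, h1, h⟩ := VarietyA.Glue2.exists_glued_two U V hUV g hg
  exact ⟨M, hM, ⟨⟨e₀, e₁, h0, h1, h⟩⟩⟩

namespace Tr

variable {U V : X.Opens} {g g' : Γ(X, U ⊓ V)} {M N : X.Modules}

/-- Change of the function by a unit. -/
noncomputable def smul (t : Tr U V g M) (a : Γ(X, U)) (ha : IsUnit a) (hg : g' = ores inf_le_left a * g) :
    Tr U V g' M where
  e₀ := a • t.e₀
  e₁ := t.e₁
  gen₀ := t.gen₀.unit_smul ha
  gen₁ := t.gen₁
  rel := by rw [res_smul, t.rel, smul_smul, hg]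

/-- Powers. -/
noncomputable def pow (t : Tr U V g M) (n : ℕ) : Tr U V (g ^ n) (CohB1.tensorPow M n) where
  e₀ := Fdesc.LocGen.pow t.e₀ n
  e₁ := Fdesc.LocGen.pow t.e₁ n
  gen₀ := t.gen₀.pow n
  gen₁ := t.gen₁.pow n
  rel := by rw [res_pow, res_pow, t.rel, smul_pow]

/-- Pull back. -/
noncomputable def pull (t : Tr U V g M) (f : Y ⟶ X) (U' V' : Y.Opens) (hU : f ⁻¹ᵁ U = U') (hV : f ⁻¹ᵁ V = V')
    (g' : Γ(Y, U' ⊓ V')) (hg : ores (U := U' ⊓ V') (V := f ⁻¹ᵁ (U ⊓ V)) (by rw [← hU, ← hV]; exact le_rfl) g' =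
      f.app (U ⊓ V) g) : Tr U' V' g' ((Scheme.Modules.pullback f).obj M) := by
  subst hU hV
  have hg' : g' = f.app (U ⊓ V) g := by
    rw [← hg]
    exact (ores_refl g').symm
  exact
  { e₀ := pullSec f t.e₀
    e₁ := pullSec f t.e₁
    gen₀ := t.gen₀.pullSec f
    gen₁ := t.gen₁.pullSec f
    rel := by
      have h1 := congrArg (pullSec f) t.rel
      rw [pullSec_smul, ← res_pullSec, ← res_pullSec] at h1
      rw [hg']
      exact h1 }

theorem nonempty_iso (t : Tr U V g M) (s : Tr U V g N) (hUV : U ⊔ V = ⊤) : Nonempty (M ≅ N) := by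
  let W : Bool → X.Opens := fun i => Bool.rec V U i
  let e : ∀ i, Γ(M, W i) := fun i => Bool.rec t.e₁ t.e₀ i
  let e' : ∀ i, Γ(N, W i) := fun i => Bool.rec s.e₁ s.e₀ i
  have he : ∀ i, IsGen (e i) := by rintro (_ | _); exacts [t.gen₁, t.gen₀]
  have he' : ∀ i, IsGen (e' i) := by rintro (_ | _); exacts [s.gen₁, s.gen₀]
  have hg : IsUnit g := (t.gen₁.res (inf_le_right : U ⊓ V ≤ V)).isUnit_of_smul (by
    rw [← t.rel]; exact t.gen₀.res _)
  obtain ⟨φ, -⟩ := Ega2.IsoCocycle.exists_iso (M := M) (N := N) (U := W) (by rw [iSup_bool_eq]; exact hUV)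
    (e := e) (e' := e') he he' (by
      rintro (_ | _) (_ | _)
      · exact ⟨1, by rw [one_smul], by rw [one_smul]⟩
      · have h1 : (V ⊓ U) ≤ U ⊓ V := (inf_comm V U).le
        refine ⟨ores h1 ((hg.unit⁻¹ : Γ(X, U ⊓ V)ˣ) : Γ(X, U ⊓ V)), ?_, ?_⟩
        · have h2 := congrArg (fun m => ((hg.unit⁻¹ : Γ(X, U ⊓ V)ˣ) : Γ(X, U ⊓ V)) • m) t.rel
          simp only [smul_smul] at h2
          rw [IsUnit.val_inv_mul, one_smul] at h2
          have h3 := congrArg (res M h1) h2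
          rw [res_smul, res_res, res_res] at h3
          exact h3.symm
        · have h2 := congrArg (fun m => ((hg.unit⁻¹ : Γ(X, U ⊓ V)ˣ) : Γ(X, U ⊓ V)) • m) s.rel
          simp only [smul_smul] at h2
          rw [IsUnit.val_inv_mul, one_smul] at h2
          have h3 := congrArg (res N h1) h2
          rw [res_smul, res_res, res_res] at h3
          exact h3.symm
      · exact ⟨g, t.rel, s.rel⟩
      · exact ⟨1, by rw [one_smul], by rw [one_smul]⟩)
  exact ⟨φ⟩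

end Tr

theorem exists_sec_two (M : X.Modules) {U V : X.Opens} (hUV : U ⊔ V = ⊤) (a : Γ(M, U)) (b : Γ(M, V))
    (h : res M (inf_le_left : U ⊓ V ≤ U) a = res M (inf_le_right : U ⊓ V ≤ V) b) :
    ∃ t : Γ(M, ⊤), res M le_top t = a ∧ res M le_top t = b :=
  VarietyA.Glue2.exists_msec_two M U V hUV a b h

/-- A module with an affine generating locus. -/
theorem exists_genLocus {U V : X.Opens} (hUV : U ⊔ V = ⊤) {M : X.Modules} {e₀ : Γ(M, U)} {e₁ : Γ(M, V)}
    (h0 : IsGen e₀) (h1 : IsGen e₁) (w : Γ(X, V))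
    (h : res M (inf_le_left : U ⊓ V ≤ U) e₀ = ores (inf_le_right : U ⊓ V ≤ V) w • res M (inf_le_right : U ⊓ V ≤ V) e₁) (hw : X.basicOpen w ≤ U) :
    ∃ s : Coh.structureModule X ⟶ CohB1.tensorPow M 1, CohB1.genLocus _ s = U := by
  obtain ⟨t, ht0, ht1⟩ := exists_sec_two M hUV e₀ (w • e₁) (by rw [h, res_smul])
  refine ⟨homOf (Fdesc.LocGen.pow t 1), le_antisymm ?_ ?_⟩
  · intro x hx
    by_contra hxU
    have hxV : x ∈ V := by
      have : x ∈ U ⊔ V := by rw [hUV]; trivial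
      rcases this with h2 | h2
      · exact absurd h2 hxU
      · exact h2
    have h2 : CohB1.genLocus _ (homOf (Fdesc.LocGen.pow t 1)) ⊓ V = X.basicOpen (w ^ 1) :=
      genLocus_inf_eq _ (h1.pow 1) (by rw [sec_homOf, res_pow, ht1, smul_pow])
    have h3 : x ∈ X.basicOpen (w ^ 1) := by rw [← h2]; exact ⟨hx, hxV⟩
    rw [pow_one] at h3
    exact hxU (hw h3)
  · rw [le_genLocus_iff, sec_homOf, res_pow, ht0]
    exact h0.pow 1

theorem isAmple_of_two [CompactSpace X] {U V : X.Opens} (hUV : U ⊔ V = ⊤) (hU : IsAffineOpen U)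
    (hV : IsAffineOpen V) {M : X.Modules} (hM : PicF.IsInvertible M) {e₀ : Γ(M, U)} {e₁ : Γ(M, V)}
    (h0 : IsGen e₀) (h1 : IsGen e₁) (w : Γ(X, V)) (y : Γ(X, U))
    (h : res M (inf_le_left : U ⊓ V ≤ U) e₀ = ores (inf_le_right : U ⊓ V ≤ V) w • res M (inf_le_right : U ⊓ V ≤ V) e₁) (hw : X.basicOpen w ≤ U)
    (h' : res M (inf_le_right : U ⊓ V ≤ V) e₁ = ores (inf_le_left : U ⊓ V ≤ U) y • res M (inf_le_left : U ⊓ V ≤ U) e₀) (hy : X.basicOpen y ≤ V) :
    CohB1.IsAmple M := by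
  refine ⟨hM, inferInstance, fun x => ?_⟩
  have hx : x ∈ U ⊔ V := by rw [hUV]; trivial
  rcases hx with hx | hx
  · obtain ⟨s, hs⟩ := exists_genLocus hUV h0 h1 w h hw
    refine ⟨0, s, ?_⟩
    have hs' : CohB1.genLocus (CohB1.tensorPow M (0 + 1)) s = U := hs
    rw [hs']
    exact ⟨hx, hU⟩
  · obtain ⟨s, hs⟩ := exists_genLocus (U := V) (V := U) (by rw [sup_comm]; exact hUV) h1 h0 y (by
      have h2 := congrArg (res M ((inf_comm V U).le : V ⊓ U ≤ U ⊓ V)) h'
      rw [res_res, res_smul, res_res, ores_ores] at h2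
      exact h2) hy
    refine ⟨0, s, ?_⟩
    have hs' : CohB1.genLocus (CohB1.tensorPow M (0 + 1)) s = V := hs
    rw [hs']
    exact ⟨hx, hV⟩

end K869.TwoLine
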