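import Groth.Agent.AbVar.K869.EllMap
import Groth.Agent.AbVar.K869.TwoLine
import Groth.Agent.CurvSt.K253.WeiCoh

/-!
# The line bundle `O(3·0)` on `y² = x³ - x`

`L A` is glued from the function `w = 1 / y` on the intersection of the two charts.  It is ample, and the pull back
along a monomial morphism of exponent `n` is the `n`-th power.
-/

set_option autoImplicit false
universe u

open CategoryTheory CategoryTheory.Limits AlgebraicGeometry TopologicalSpace

namespace K869.EllLine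

open K869.EllMap K869.TwoLine K820 K820.EW K253.WeiCoh
open Groth.Agent.Fdesc.LocGen Groth.Agent.Grpsch.PicGrp
open Groth.Agent.VarietyA.Ell (sc)
open Groth.Agent

variable {A B : Type u} [CommRing A] [CommRing B]

theorem isUnit_c (d : Dat A B) : IsUnit d.c :=
  IsUnit.of_mul_eq_one (d.c ^ 3) (by rw [← pow_succ']; exact d.hc)

theorem preimage_oU (d : Dat A B) : d.mor ⁻¹ᵁ oU (Wei A) = oU (Wei B) := by
  ext e
  rcases exists_preimage (Wei B) e with ⟨a, rfl⟩ | ⟨a, rfl⟩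
  · constructor
    · intro _; exact ⟨a, rfl⟩
    · intro _
      change d.mor (ιU (Wei B) a) ∈ (ιU (Wei A)).opensRange
      rw [← Scheme.Hom.comp_apply, d.ιU_mor, Scheme.Hom.comp_apply]
      exact ⟨_, rfl⟩
  · change d.mor (ιC (Wei B) a) ∈ (ιU (Wei A)).opensRange ↔ ιC (Wei B) a ∈ (ιU (Wei B)).opensRange
    rw [← Scheme.Hom.comp_apply, d.ιC_mor, Scheme.Hom.comp_apply, ιC_mem_range_ιU, ιC_mem_range_ιU]
    have h1 : wC (Wei A) ∈ (Spec.map (CommRingCat.ofHom d.mC) a).asIdeal ↔ d.mC (wC (Wei A)) ∈ a.asIdeal := Iff.rfl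
    rw [h1, d.mC_w]
    have h2 : IsUnit (iC (Wei B) (d.c ^ 3)) := ((isUnit_c d).pow 3).map _
    rw [Ideal.unit_mul_mem_iff_mem _ h2, a.isPrime.pow_mem_iff_mem _ (Nat.pos_of_ne_zero d.good.ne_zero)]

theorem preimage_oC (d : Dat A B) : d.mor ⁻¹ᵁ oC (Wei A) = oC (Wei B) := by
  ext e
  rcases exists_preimage (Wei B) e with ⟨a, rfl⟩ | ⟨a, rfl⟩
  · change d.mor (ιU (Wei B) a) ∈ (ιC (Wei A)).opensRange ↔ ιU (Wei B) a ∈ (ιC (Wei B)).opensRange
    rw [← Scheme.Hom.comp_apply, d.ιU_mor, Scheme.Hom.comp_apply, ιU_mem_range_ιC, ιU_mem_range_ιC]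
    have h1 : yU (Wei A) ∈ (Spec.map (CommRingCat.ofHom d.mU) a).asIdeal ↔ d.mU (yU (Wei A)) ∈ a.asIdeal := Iff.rfl
    rw [h1, d.mU_y]
    have h2 : IsUnit (iU (Wei B) d.c) := (isUnit_c d).map _
    rw [Ideal.unit_mul_mem_iff_mem _ h2, a.isPrime.pow_mem_iff_mem _ (Nat.pos_of_ne_zero d.good.ne_zero)]
  · constructor
    · intro _; exact ⟨a, rfl⟩
    · intro _
      change d.mor (ιC (Wei B) a) ∈ (ιC (Wei A)).opensRange
      rw [← Scheme.Hom.comp_apply, d.ιC_mor, Scheme.Hom.comp_apply]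
      exact ⟨_, rfl⟩

variable (A)

/-- `w` on the chart at infinity -/
noncomputable def wO : Γ(E (Wei A), oC (Wei A)) := ((fC_bijective (Wei A)).2 (wC (Wei A))).choose

theorem fC_wO : fC (Wei A) (wO A) = wC (Wei A) := ((fC_bijective (Wei A)).2 (wC (Wei A))).choose_spec

/-- `y` on the affine chart -/
noncomputable def yO : Γ(E (Wei A), oU (Wei A)) := ((fU_bijective (Wei A)).2 (yU (Wei A))).choose

theorem fU_yO : fU (Wei A) (yO A) = yU (Wei A) := ((fU_bijective (Wei A)).2 (yU (Wei A))).choose_spec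

/-- `w` on the intersection -/
noncomputable def gO : Γ(E (Wei A), oU (Wei A) ⊓ oC (Wei A)) := ores inf_le_right (wO A)

theorem fL_gO : fL (Wei A) (gO A) = wL (Wei A) := by
  refine (fL_resC (Wei A) (wO A)).trans ?_
  rw [fC_wO, resC_w]

theorem gO_mul : gO A * ores inf_le_left (yO A) = 1 := by
  apply (fL_bijective (Wei A)).1
  rw [map_mul, fL_gO, map_one]
  have h := fL_resU (Wei A) (yO A)
  rw [fU_yO] at h
  refine Eq.trans ?_ (wL_mul (Wei A))
  exact congrArg (fun t => wL (Wei A) * t) h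

theorem isUnit_gO : IsUnit (gO A) := IsUnit.of_mul_eq_one _ (gO_mul A)

/-- The line bundle. -/
noncomputable def L : (E (Wei A)).Modules := (exists_tr _ _ (sup_eq (Wei A)) (gO A) (isUnit_gO A)).choose

theorem isInvertible_L : PicF.IsInvertible (L A) :=
  (exists_tr _ _ (sup_eq (Wei A)) (gO A) (isUnit_gO A)).choose_spec.1

noncomputable def trL : Tr (oU (Wei A)) (oC (Wei A)) (gO A) (L A) :=
  (exists_tr _ _ (sup_eq (Wei A)) (gO A) (isUnit_gO A)).choose_spec.2.some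

/-- The class of the line bundle. -/
noncomputable def cl : Pic (E (Wei A)) := mk (L A) (isInvertible_L A)

theorem isAffineOpen_oU : IsAffineOpen (oU (Wei A)) := isAffineOpen_opensRange _

theorem isAffineOpen_oC : IsAffineOpen (oC (Wei A)) := isAffineOpen_opensRange _

theorem mem_asIdeal_of_not_mem_basicOpen {R : Type u} [CommRing R] {X : Scheme.{u}}
    (j : Spec (CommRingCat.of R) ⟶ X) (V : X.Opens) (h : ⊤ ≤ j ⁻¹ᵁ V) (a : Spec (CommRingCat.of R))
    (f : Γ(X, V)) (hf : j a ∈ X.basicOpen f) : ev j V h f ∉ a.asIdeal := by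
  have h1 : a ∈ (Spec (CommRingCat.of R)).basicOpen (j.appLE V ⊤ h f) := by
    have h2 : j ⁻¹ᵁ X.basicOpen f ⊓ ⊤ = (Spec (CommRingCat.of R)).basicOpen (j.appLE V ⊤ h f) := by
      rw [Scheme.basicOpen_appLE, inf_comm]
    rw [← h2]
    exact ⟨hf, trivial⟩
  intro h3
  have h4 : (Spec (CommRingCat.of R)).basicOpen (j.appLE V ⊤ h f) =
      PrimeSpectrum.basicOpen (ev j V h f) := by
    have := basicOpen_eq_of_affine' (R := CommRingCat.of R) (j.appLE V ⊤ h f)
    rw [this]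
    rfl
  rw [h4] at h1
  exact h1 h3

theorem basicOpen_wO_le : (E (Wei A)).basicOpen (wO A) ≤ oU (Wei A) := by
  intro x hx
  obtain ⟨a, rfl⟩ : x ∈ oC (Wei A) := (E (Wei A)).basicOpen_le _ hx
  rw [ιC_mem_range_ιU, ← fC_wO A]
  exact mem_asIdeal_of_not_mem_basicOpen _ _ _ _ _ hx

theorem basicOpen_yO_le : (E (Wei A)).basicOpen (yO A) ≤ oC (Wei A) := by
  intro x hx
  obtain ⟨a, rfl⟩ : x ∈ oU (Wei A) := (E (Wei A)).basicOpen_le _ hx
  rw [ιU_mem_range_ιC, ← fU_yO A]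
  exact mem_asIdeal_of_not_mem_basicOpen _ _ _ _ _ hx

theorem isAmple_L : CohB1.IsAmple (L A) := by
  have hc : CompactSpace (E (Wei A)) := K253.WeiProper.compactSpace (Wei A)
  refine isAmple_of_two (sup_eq (Wei A)) (isAffineOpen_oU A) (isAffineOpen_oC A) (isInvertible_L A)
    (trL A).gen₀ (trL A).gen₁ (wO A) (yO A) (trL A).rel (basicOpen_wO_le A) ?_ (basicOpen_yO_le A)
  rw [(trL A).rel, smul_smul, mul_comm, gO_mul, one_smul]

variable {A}

/-- **The pull back of the line bundle along a monomial morphism is a power.** -/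
theorem nonempty_iso (d : Dat A B) :
    Nonempty ((Scheme.Modules.pullback d.mor).obj (L A) ≅ CohB1.tensorPow (L B) d.n) := by
  have hu : IsUnit (sc (str (Wei B)) (oU (Wei B)) (d.c ^ 3)) := ((isUnit_c d).pow 3).map _
  have t1 := ((trL B).pow d.n).smul (g' := sc (str (Wei B)) (oU (Wei B) ⊓ oC (Wei B)) (d.c ^ 3) * gO B ^ d.n)
    (sc (str (Wei B)) (oU (Wei B)) (d.c ^ 3)) hu (by
      congr 1
      exact (sc_res_apply (str (Wei B)) inf_le_left _).symm)
  have hop : d.mor ⁻¹ᵁ (oU (Wei A) ⊓ oC (Wei A)) = oU (Wei B) ⊓ oC (Wei B) := by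
    rw [← preimage_oU d, ← preimage_oC d]
    rfl
  have hle : (⊤ : (Spec (CommRingCat.of (RL (Wei B)))).Opens) ≤
      (jU (Wei B) ≫ ιU (Wei B)) ⁻¹ᵁ (d.mor ⁻¹ᵁ (oU (Wei A) ⊓ oC (Wei A))) := by
    rw [hop]
    exact hL (Wei B)
  have hcomm : (jU (Wei B) ≫ ιU (Wei B)) ≫ d.mor =
      Spec.map (CommRingCat.ofHom d.mL) ≫ (jU (Wei A) ≫ ιU (Wei A)) := by
    rw [Category.assoc, d.ιU_mor, jU, jU, ← Spec.map_comp_assoc, ← Spec.map_comp_assoc, ← CommRingCat.ofHom_comp,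
      ← CommRingCat.ofHom_comp, d.mL_comp_alg]
  have t2 := (trL A).pull d.mor _ _ (preimage_oU d) (preimage_oC d)
    (sc (str (Wei B)) (oU (Wei B) ⊓ oC (Wei B)) (d.c ^ 3) * gO B ^ d.n) (by
      apply (ev_bijective (jU (Wei B) ≫ ιU (Wei B)) (d.mor ⁻¹ᵁ (oU (Wei A) ⊓ oC (Wei A)))
        (by rw [hop, inf_eq]) hle).1
      rw [ev_app _ hcomm _ (hL (Wei A)) hle (gO A)]
      have h1 : d.mL (ev (jU (Wei A) ≫ ιU (Wei A)) (oU (Wei A) ⊓ oC (Wei A)) (hL (Wei A)) (gO A)) =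
          iL (Wei B) (d.c ^ 3) * wL (Wei B) ^ d.n := by
        have h2 : ev (jU (Wei A) ≫ ιU (Wei A)) (oU (Wei A) ⊓ oC (Wei A)) (hL (Wei A)) (gO A) = wL (Wei A) :=
          fL_gO A
        rw [h2]
        exact liftL_w _ _ _ _ _ _
      rw [h1]
      refine (ev_res _ _ hle (hL (Wei B)) _).trans ?_
      change fL (Wei B) _ = _
      rw [map_mul, fL_sc, map_pow (fL (Wei B)), fL_gO])
  exact t2.nonempty_iso t1 (sup_eq (Wei B))

theorem pull_cl (d : Dat A B) : pull d.mor (cl A) = cl B ^ d.n := by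
  rw [cl, cl, ← mk_tensorPow, pull_mk, mk_eq_iff]
  exact nonempty_iso d

end K869.EllLine
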