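import Groth.Agent.AbVar.K511.HT.Iface
import Groth.Agent.AbVar.K869.EllGrp
import Groth.Agent.AbVar.K869.EllLine
import Groth.Agent.AbVar.K869.EllEnd
import Groth.Agent.AbSch.K449.Rigid2

/-!
# The node `ELL` of the Honda–Tate theorem: the elliptic curve `y² = x³ - x`
-/

set_option autoImplicit false
universe u

open CategoryTheory CategoryTheory.Limits MonoidalCategory CartesianMonoidalCategory MonObj GrpObj AlgebraicGeometry

namespace K869.Ell

open K869.EllMap K869.EllGrp K869.EllLine K869.EllEnd K820.EW K511.HT Groth.Agent Groth.Agent.Grpsch.PicGrp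

section conj

variable {S : Scheme.{u}} {A B : Over S} [GrpObj A] [IsCommMonObj A] [GrpObj B] [IsCommMonObj B] (e : A ≅ B)
  [IsMonHom e.hom]

/-- Transport of endomorphisms along an isomorphism of groups. -/
noncomputable def conj : EndAV.End A →+* EndAV.End B where
  toFun f := EndAV.End.of (e.inv ≫ f.toHom ≫ e.hom)
  map_one' := EndAV.End.ext (by
    change e.inv ≫ 𝟙 A ≫ e.hom = 𝟙 B
    rw [Category.id_comp, e.inv_hom_id])
  map_mul' f g := EndAV.End.ext (by
    change e.inv ≫ (g.toHom ≫ f.toHom) ≫ e.hom = (e.inv ≫ g.toHom ≫ e.hom) ≫ (e.inv ≫ f.toHom ≫ e.hom)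
    simp)
  map_zero' := EndAV.End.ext (by
    change e.inv ≫ (1 : A ⟶ A) ≫ e.hom = 1
    rw [MonObj.one_comp, MonObj.comp_one])
  map_add' f g := EndAV.End.ext (by
    change e.inv ≫ (f.toHom * g.toHom) ≫ e.hom = (e.inv ≫ f.toHom ≫ e.hom) * (e.inv ≫ g.toHom ≫ e.hom)
    rw [MonObj.mul_comp, MonObj.comp_mul])

theorem conj_toHom (f : EndAV.End A) : (conj e f).toHom = e.inv ≫ f.toHom ≫ e.hom := rfl

end conj

section rigid

variable {W : Type u} [CommRing W] [IsLocalRing W] (h2 : IsUnit (2 : W))

/-- An endomorphism over a local ring which is trivial on the special fibre is trivial. -/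
theorem eq_one_of_bc (n : Ex W ⟶ Ex W) (hn : letI := grp h2; IsMonHom n)
    (h : letI := grp h2; (Over.pullback (spm (IsLocalRing.residue W))).map n = 1) :
    letI := grp h2; n = 1 := by
  let _ := grp h2
  have := smooth h2
  have : IsProper (str (Wei W)) := K253.WeiProper.isProper_str (Wei W)
  have : GeometricallyIntegral (str (Wei W)) := K253.WeiFib.geometricallyIntegral (Wei W)
  have hne : Nonempty (Spc (IsLocalRing.ResidueField W)) := inferInstance
  have hcon : PreconnectedSpace (Spec (CommRingCat.of W)) := by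
    constructor
    refine isPreconnected_of_forall (IsLocalRing.closedPoint W : PrimeSpectrum W) fun y _ => ?_
    refine ⟨closure {y}, Set.subset_univ _, ?_, subset_closure rfl, isPreconnected_singleton.closure⟩
    exact (IsLocalRing.specializes_closedPoint (y : PrimeSpectrum W)).mem_closure
  have he : zeroSec W ≫ n.left = zeroSec W := by
    have h1 : (η[Ex W] : 𝟙_ _ ⟶ Ex W) ≫ n = η[Ex W] := IsMonHom.one_hom n
    have h3 := congrArg CommaMorphism.left h1
    change (η[Ex W] : 𝟙_ _ ⟶ Ex W).left ≫ n.left = (η[Ex W] : 𝟙_ _ ⟶ Ex W).left at h3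
    rwa [one_left h2] at h3
  have key := K449.Rigid2.eq_of_connected (str (Wei W)) (str (Wei W)).isClosedMap (str (Wei W)).isOpenMap
    (fun V => K448.RigidityMain.isIso_app (str (Wei W)) V) (zeroSec W) (zeroSec_str W) (str (Wei W)) n.left
    (Over.w n) (Spc (IsLocalRing.ResidueField W)) (spm (IsLocalRing.residue W)) (by
      have h3 : ((Over.pullback (spm (IsLocalRing.residue W))).map n).left ≫
          pullback.fst (Ex W).hom (spm (IsLocalRing.residue W)) =
          pullback.fst (Ex W).hom (spm (IsLocalRing.residue W)) ≫ n.left := pullback.lift_fst _ _ _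
      have h4 : ((1 : Red.bc (spm (IsLocalRing.residue W)) (Ex W) ⟶ Red.bc (spm (IsLocalRing.residue W)) (Ex W))).left ≫
          pullback.fst (Ex W).hom (spm (IsLocalRing.residue W)) =
          pullback.fst (Ex W).hom (spm (IsLocalRing.residue W)) ≫ str (Wei W) ≫ zeroSec W := by
        rw [Hom.one_def, Over.comp_left, Category.assoc, unit_bc, one_left h2]
        have h5 : pullback.fst (Ex W).hom (spm (IsLocalRing.residue W)) ≫ str (Wei W) =
          pullback.snd (Ex W).hom (spm (IsLocalRing.residue W)) ≫ spm (IsLocalRing.residue W) := pullback.condition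
        rw [reassoc_of% h5]
        rfl
      rw [he]
      change pullback.fst (Ex W).hom (spm (IsLocalRing.residue W)) ≫ n.left = _
      rw [← h3, h]
      exact h4)
  apply Over.OverMorphism.ext
  rw [key, he, Hom.one_def, Over.comp_left, one_left h2]
  rfl

end rigid

section field

variable {k : Type u} [Field k] (h2 : IsUnit (2 : k))

include h2 in
/-- `(x, y) ↦ (x, - y)` is not the identity. -/
theorem ex_neg_ne (d : Dat k k) (hd : d.φ = RingHom.id k) (hn : d.n = 1) (hc : d.c = -1) : ex d hd ≠ 𝟙 (Ex k) := by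
  intro h
  have h1 : d.mor = 𝟙 (E (Wei k)) := congrArg CommaMorphism.left h
  have h3 := d.ιU_mor
  rw [h1, Category.comp_id] at h3
  have h4 : Spec.map (CommRingCat.ofHom d.mU) = 𝟙 _ := by
    rw [← cancel_mono (ιU (Wei k)), ← h3, Category.id_comp]
  have h5 : CommRingCat.ofHom d.mU = 𝟙 _ := Spec.map_injective (h4.trans (Spec.map_id _).symm)
  have h6 : d.mU = RingHom.id _ := congrArg CommRingCat.Hom.hom h5
  have h7 := d.mU_y
  rw [h6, hn, hc, pow_one, map_neg, map_one, RingHom.id_apply] at h7
  have h8 : iU (Wei k) 2 * yU (Wei k) = 0 := by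
    have h9 : iU (Wei k) 2 = 2 := map_ofNat _ 2
    rw [h9]
    linear_combination h7
  rcases mul_eq_zero.mp h8 with h9 | h9
  · exact (h2.map (iU (Wei k))).ne_zero h9
  · exact K253.WeiFib.yU_ne_zero (Wei k) h9

end field

section main

open IsLocalRing

/-- The datum of the endomorphism `x ↦ c² x`, `y ↦ c y`. -/
def cD (A : Type u) [CommRing A] (c : A) (hc : c ^ 4 = 1) : Dat A A := ⟨RingHom.id A, 1, c, Good.one, hc⟩

theorem eData (r : ℕ) (hr : r.Prime) (hr4 : r % 4 = 3) (W : Type u) [CommRing W] [IsLocalRing W]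
    (hm : (r : W) ∈ maximalIdeal W) (iW : W) (hi : iW ^ 2 = -1) : Nonempty (EData r W) := by
  have hfact : Fact r.Prime := ⟨hr⟩
  have hr2 : r ≠ 2 := by rintro rfl; norm_num at hr4
  -- `2` is invertible
  have h2W : IsUnit (2 : W) := by
    by_contra hc
    have h2 : (2 : W) ∈ maximalIdeal W := (mem_maximalIdeal _).mpr hc
    have h3 : (r : W) = 2 * ((r / 2 : ℕ) : W) + 1 := by
      have h4 : r = 2 * (r / 2) + 1 := by omega
      conv_lhs => rw [h4]
      push_cast
      ring
    have h4 : (1 : W) ∈ maximalIdeal W := by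
      have h5 : (1 : W) = r - 2 * ((r / 2 : ℕ) : W) := by rw [h3]; ring
      rw [h5]
      exact sub_mem hm (Ideal.mul_mem_right _ _ h2)
    exact (Ideal.ne_top_iff_one _).mp (maximalIdeal.isMaximal W).ne_top h4
  have h2k : IsUnit (2 : ResidueField W) := by
    have := h2W.map (residue W)
    rwa [map_ofNat] at this
  have hrk : (r : ResidueField W) = 0 := by
    rw [← map_natCast (residue W)]
    exact (residue_eq_zero_iff _).mpr hm
  have hchar : CharP (ResidueField W) r := (CharP.charP_iff_prime_eq_zero hr).mpr hrk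
  -- the data
  have hi4 : iW ^ 4 = 1 := by
    have : iW ^ 4 = (iW ^ 2) ^ 2 := by ring
    rw [this, hi]; ring
  set ik : ResidueField W := residue W iW with hik
  have hik2 : ik ^ 2 = -1 := by rw [hik, ← map_pow, hi, map_neg, map_one]
  have hik4 : ik ^ 4 = 1 := by rw [hik, ← map_pow, hi4, map_one]
  let _ := grp h2W
  have := isCommMonObj h2W
  let _ := grp h2k
  have := isCommMonObj h2k
  let dI : Dat W W := cD W iW hi4
  let dIk : Dat (ResidueField W) (ResidueField W) := cD _ ik hik4
  let dN : Dat (ResidueField W) (ResidueField W) := cD _ (-1) (by ring)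
  let dF : Dat (ResidueField W) (ResidueField W) :=
    ⟨RingHom.id _, r, 1, Good.of_charP r hr2, one_pow _⟩
  have fI : dI.φ = RingHom.id W := rfl
  have fIk : dIk.φ = RingHom.id (ResidueField W) := rfl
  have fN : dN.φ = RingHom.id (ResidueField W) := rfl
  have fF : dF.φ = RingHom.id (ResidueField W) := rfl
  have mI : IsMonHom (ex dI fI) := isMonHom_ex h2W dI fI
  have mIk : IsMonHom (ex dIk fIk) := isMonHom_ex h2k dIk fIk
  have mN : IsMonHom (ex dN fN) := isMonHom_ex h2k dN fN
  have mF : IsMonHom (ex dF fF) := isMonHom_ex h2k dF fF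
  let i : EndAV.End (Ex W) := EndAV.End.of (ex dI fI)
  let i₀ : EndAV.End (Ex (ResidueField W)) := EndAV.End.of (ex dIk fIk)
  let ν : EndAV.End (Ex (ResidueField W)) := EndAV.End.of (ex dN fN)
  let F₀ : EndAV.End (Ex (ResidueField W)) := EndAV.End.of (ex dF fF)
  -- the norm form
  have hprop : IsProper (Ex (ResidueField W)).hom := K253.WeiProper.isProper_str (Wei _)
  have hgi : GeometricallyIntegral (Ex (ResidueField W)).hom := K253.WeiFib.geometricallyIntegral (Wei _)
  have hdim : topologicalKrullDim (Ex (ResidueField W)).left = ((0 + 1 : ℕ) : WithBot ℕ∞) := by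
    rw [zero_add, Nat.cast_one]
    exact K253.WeiFib.dim_eq_one (Wei _)
  have hq := nrm (Ex (ResidueField W)) hdim
  -- `ν = -1`
  have hν1 : ν * ν = 1 := by
    apply EndAV.End.ext
    change ex dN fN ≫ ex dN fN = 𝟙 _
    rw [ex_comp, ← ex_id rfl]
    refine ex_congr _ _ ?_ ?_
    · rfl
    · change (-1 : ResidueField W) * (-1) ^ 1 = 1
      ring
  have hν2 : ν ≠ 1 := by
    intro h
    exact ex_neg_ne h2k dN fN rfl rfl (congrArg EndAV.Hom.toHom h)
  have hν : ν = -1 := hq.eq_neg_one hν1 hν2
  -- `i² = -1` on the special fibre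
  have hi₀ : i₀ * i₀ = -1 := by
    rw [← hν]
    apply EndAV.End.ext
    change ex dIk fIk ≫ ex dIk fIk = ex dN fN
    rw [ex_comp]
    refine ex_congr _ _ rfl ?_
    change ik * ik ^ 1 = -1
    rw [pow_one, ← pow_two, hik2]
  -- `F i = - i F`
  have hFi₀ : F₀ * i₀ = -(i₀ * F₀) := by
    have h1 : -(i₀ * F₀) = ν * (i₀ * F₀) := by rw [hν, neg_mul, _root_.one_mul]
    rw [h1]
    apply EndAV.End.ext
    change ex dIk fIk ≫ ex dF fF = (ex dF fF ≫ ex dIk fIk) ≫ ex dN fN
    rw [ex_comp, ex_comp, ex_comp]
    refine ex_congr _ _ ?_ ?_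
    · change 1 * r = (r * 1) * 1
      ring
    · change (1 : ResidueField W) * ik ^ r = (-1) * (ik * 1 ^ 1) ^ 1
      have h3 : ik ^ r = -ik := by
        have h4 : r = 4 * (r / 4) + 3 := by omega
        rw [h4, pow_add, pow_mul, hik4, one_pow, _root_.one_mul, pow_succ, hik2]
        ring
      rw [h3]
      ring
  -- the degree of `F`
  have hdeg : K516.DegPoly.deg F₀.toHom = r := by
    refine deg_eq (Ex (ResidueField W)) hdim (ex dF fF) (isAmple_L (ResidueField W)) r ?_
    exact pull_cl dF
  have hF₀ : F₀ * F₀ = -(r : EndAV.End (Ex (ResidueField W))) :=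
    hq.sq_of_anti hi₀ hFi₀ (by rw [hdeg])
  -- transport
  have hth : IsMonHom (th (residue W)).hom := isMonHom_th h2W (residue W) h2k
  have hbci : bcEnd (spm (residue W)) (Ex W) i = conj (th (residue W)) i₀ := by
    apply EndAV.End.ext
    change (Over.pullback (spm (residue W))).map (ex dI fI) =
      (th (residue W)).inv ≫ ex dIk fIk ≫ (th (residue W)).hom
    rw [Iso.eq_inv_comp]
    exact th_ex (residue W) dI fI dIk fIk rfl rfl
  have hii : i * i = -1 := by
    have h1 : i * i + 1 = 0 := by
      apply EndAV.End.ext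
      refine eq_one_of_bc h2W (i * i + 1).toHom inferInstance ?_
      have h3 : bcEnd (spm (residue W)) (Ex W) (i * i + 1) = 0 := by
        rw [map_add, map_mul, map_one, hbci, ← map_mul, hi₀, map_neg, map_one, neg_add_cancel]
      exact congrArg EndAV.Hom.toHom h3
    exact eq_neg_of_add_eq_zero_left h1
  have hfst : pull (th (residue W)).hom.left (pull (pullback.fst (Ex W).hom (spm (residue W))) (cl W)) =
      cl (ResidueField W) := by
    rw [← pull_comp, th_fst, pull_cl]
    exact pow_one _
  have hfst' : pull (pullback.fst (Ex W).hom (spm (residue W))) (cl W) =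
      pull (th (residue W)).inv.left (cl (ResidueField W)) := by
    rw [← hfst, ← pull_comp, ← Over.comp_left, Iso.inv_hom_id, Over.id_left, pull_id]
  exact ⟨{
    E := Ex W
    ab := isAbSch h2W
    i := i
    i_sq := hii
    F := conj (th (residue W)) F₀
    F_sq := by rw [← map_mul, hF₀, map_neg, map_natCast]
    F_i := by rw [hbci, ← map_mul, ← map_mul, hFi₀, map_neg]
    M₀ := cl W
    ample := ⟨L W, isAmple_L W, rfl⟩
    i_M := by
      change pull dI.mor (cl W) = cl W
      rw [pull_cl]
      exact pow_one _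
    F_M := by
      have e2 : ((th (residue W)).inv.left ≫ dF.mor ≫ (th (residue W)).hom.left) ≫ (th (residue W)).inv.left =
          (th (residue W)).inv.left ≫ dF.mor := by
        have e3 : (th (residue W)).hom.left ≫ (th (residue W)).inv.left = 𝟙 (E (Wei (ResidueField W))) := by
          rw [← Over.comp_left, Iso.hom_inv_id]
          rfl
        rw [Category.assoc, Category.assoc, e3]
        exact congrArg (fun t => (th (residue W)).inv.left ≫ t) (Category.comp_id dF.mor)
      rw [hfst']
      change pull ((th (residue W)).inv.left ≫ dF.mor ≫ (th (residue W)).hom.left) _ = _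
      rw [← pull_comp, e2, pull_comp, pull_cl, map_pow] }⟩

/-- **The node `ELL`.** -/
theorem main : K511.HT.ELL.{u} := by
  intro r hr hr4 W _ _ _ _ hm _ iW hi
  refine eData r hr hr4 W ?_ iW hi
  rw [hm]
  exact Ideal.subset_span rfl

end main

end K869.Ell
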