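import Groth.Agent.EllLift.K820.ModelBC
import Mathlib.Algebra.CharP.Frobenius

/-!
# The curve `y² = x³ - x`: monomial morphisms

`E (Wei A)` is the Weierstrass model of `y² = x³ - x` over a ring `A`.  For `φ : A → B`, an exponent `n` such that
`b ↦ b ^ n` is additive on all `B`-algebras (`n` odd) and `c ∈ B` with `c ^ 4 = 1` we have the morphism
`mor : E (Wei B) ⟶ E (Wei A)` given by `x ↦ c² xⁿ`, `y ↦ c yⁿ`, `z = x / y ↦ c zⁿ`, `w = 1 / y ↦ c³ wⁿ`.
-/

set_option autoImplicit false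
universe u

open CategoryTheory CategoryTheory.Limits AlgebraicGeometry

namespace K869.EllMap

open K820 K820.EW
open Groth.Agent.VarietyA.Ell (WEq WEqInf)

/-- The Weierstrass equation `y² = x³ - x`. -/
def Wei (A : Type u) [CommRing A] : WeierstrassCurve A := ⟨0, 0, 0, -1, 0⟩

theorem wei_map {A B : Type u} [CommRing A] [CommRing B] (φ : A →+* B) : (Wei A).map φ = Wei B := by
  ext <;> simp [Wei]

theorem delta_wei (A : Type u) [CommRing A] : (Wei A).Δ = 64 := by
  simp only [WeierstrassCurve.Δ, WeierstrassCurve.b₂, WeierstrassCurve.b₄, WeierstrassCurve.b₆,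
    WeierstrassCurve.b₈, Wei]
  ring

theorem isUnit_delta {A : Type u} [CommRing A] (h2 : IsUnit (2 : A)) : IsUnit (Wei A).Δ := by
  rw [delta_wei]
  have : (64 : A) = 2 ^ 6 := by norm_num
  rw [this]
  exact h2.pow 6

theorem wEq_iff {A B : Type u} [CommRing A] [CommRing B] (s : A →+* B) (x y : B) :
    WEq (Wei A) s x y ↔ y ^ 2 = x ^ 3 - x := by
  simp only [WEq, Wei, map_zero, zero_mul, add_zero, map_neg, map_one]
  rw [neg_one_mul, sub_eq_add_neg]

theorem wEqInf_iff {A B : Type u} [CommRing A] [CommRing B] (s : A →+* B) (z w : B) :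
    WEqInf (Wei A) s z w ↔ w = z ^ 3 - z * w ^ 2 := by
  simp only [WEqInf, Wei, map_zero, zero_mul, add_zero, map_neg, map_one]
  rw [neg_one_mul, neg_mul, sub_eq_add_neg]

/-- `n` is odd and `b ↦ b ^ n` is additive on all `B`-algebras. -/
structure Good (B : Type u) [CommRing B] (n : ℕ) : Prop where
  odd : Odd n
  add : ∀ (C : Type u) [CommRing C] (_ : B →+* C) (a b : C), (a + b) ^ n = a ^ n + b ^ n

namespace Good

variable {B : Type u} [CommRing B] {n m : ℕ}

theorem one : Good B 1 := ⟨odd_one, fun C _ _ a b => by rw [pow_one, pow_one, pow_one]⟩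

theorem mul (h : Good B n) (h' : Good B m) : Good B (n * m) :=
  ⟨h.odd.mul h'.odd, fun C _ g a b => by rw [pow_mul, h.add C g, h'.add C g, ← pow_mul, ← pow_mul]⟩

theorem pow (h : Good B n) (k : ℕ) : Good B (n ^ k) := by
  induction k with
  | zero => rw [pow_zero]; exact one
  | succ k ih => rw [pow_succ]; exact ih.mul h

theorem of_charP (p : ℕ) [hp : Fact p.Prime] (h2 : p ≠ 2) [CharP B p] : Good B p := by
  refine ⟨hp.out.odd_of_ne_two h2, fun C _ g a b => ?_⟩
  have h0 : (p : C) = 0 := by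
    rw [← map_natCast g, CharP.cast_eq_zero, map_zero]
  rcases subsingleton_or_nontrivial C with hC | hC
  · exact Subsingleton.elim _ _
  · have := (CharP.charP_iff_prime_eq_zero hp.out).mpr h0
    exact add_pow_char a b p

theorem map {D : Type u} [CommRing D] (h : Good B n) (f : B →+* D) : Good D n :=
  ⟨h.odd, fun C _ g a b => h.add C (g.comp f) a b⟩

theorem neg (h : Good B n) {C : Type u} [CommRing C] (a : C) : (-a) ^ n = -a ^ n := h.odd.neg_pow a

theorem sub (h : Good B n) {C : Type u} [CommRing C] (g : B →+* C) (a b : C) : (a - b) ^ n = a ^ n - b ^ n := by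
  rw [sub_eq_add_neg, h.add C g, h.neg, ← sub_eq_add_neg]

theorem ne_zero (h : Good B n) : n ≠ 0 := by
  rintro rfl
  exact absurd h.odd (by decide)

end Good

/-- The data of a monomial morphism. -/
@[ext]
structure Dat (A B : Type u) [CommRing A] [CommRing B] where
  /-- the map on scalars -/
  φ : A →+* B
  /-- the exponent -/
  n : ℕ
  /-- the scalar -/
  c : B
  good : Good B n
  hc : c ^ 4 = 1

namespace Dat

variable {A B D : Type u} [CommRing A] [CommRing B] [CommRing D] (d : Dat A B)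

theorem eqU : WEq (Wei A) ((iU (Wei B)).comp d.φ) (iU (Wei B) (d.c ^ 2) * xU (Wei B) ^ d.n)
    (iU (Wei B) d.c * yU (Wei B) ^ d.n) := by
  rw [wEq_iff]
  have h1 := (wEq_iff _ _ _).mp (wEq_U (Wei B))
  have h2 : (yU (Wei B) ^ d.n) ^ 2 = (xU (Wei B) ^ d.n) ^ 3 - xU (Wei B) ^ d.n := by
    rw [← pow_mul, mul_comm, pow_mul, h1, d.good.sub (iU (Wei B)), ← pow_mul, mul_comm 3, pow_mul]
  have h3 : iU (Wei B) d.c ^ 4 = 1 := by rw [← map_pow, d.hc, map_one]
  rw [mul_pow, h2, map_pow]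
  linear_combination (- iU (Wei B) d.c ^ 2 * (xU (Wei B) ^ d.n) ^ 3) * h3

theorem eqC : WEqInf (Wei A) ((iC (Wei B)).comp d.φ) (iC (Wei B) d.c * zC (Wei B) ^ d.n)
    (iC (Wei B) (d.c ^ 3) * wC (Wei B) ^ d.n) := by
  rw [wEqInf_iff]
  have h1 := (wEqInf_iff _ _ _).mp (wEqInf_C (Wei B))
  have h2 : wC (Wei B) ^ d.n = (zC (Wei B) ^ d.n) ^ 3 - zC (Wei B) ^ d.n * (wC (Wei B) ^ d.n) ^ 2 := by
    conv_lhs => rw [h1]
    rw [d.good.sub (iC (Wei B)), mul_pow, ← pow_mul, ← pow_mul, mul_comm 3, mul_comm 2, pow_mul, pow_mul]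
  have h3 : iC (Wei B) d.c ^ 4 = 1 := by rw [← map_pow, d.hc, map_one]
  rw [map_pow]
  linear_combination (iC (Wei B) d.c ^ 3) * h2 +
    (iC (Wei B) d.c ^ 3 * (zC (Wei B) ^ d.n) * (wC (Wei B) ^ d.n) ^ 2) * h3

/-- the map on the affine chart -/
noncomputable def mU : RU (Wei A) →+* RU (Wei B) :=
  liftU ((iU (Wei B)).comp d.φ) (iU (Wei B) (d.c ^ 2) * xU (Wei B) ^ d.n) (iU (Wei B) d.c * yU (Wei B) ^ d.n) d.eqU

/-- the map on the chart at infinity -/
noncomputable def mC : RC (Wei A) →+* RC (Wei B) :=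
  liftC ((iC (Wei B)).comp d.φ) (iC (Wei B) d.c * zC (Wei B) ^ d.n) (iC (Wei B) (d.c ^ 3) * wC (Wei B) ^ d.n) d.eqC

theorem mU_i (a : A) : d.mU (iU (Wei A) a) = iU (Wei B) (d.φ a) := liftU_iU _ _ _ _ a
theorem mU_x : d.mU (xU (Wei A)) = iU (Wei B) (d.c ^ 2) * xU (Wei B) ^ d.n := liftU_x _ _ _ _
theorem mU_y : d.mU (yU (Wei A)) = iU (Wei B) d.c * yU (Wei B) ^ d.n := liftU_y _ _ _ _
theorem mC_i (a : A) : d.mC (iC (Wei A) a) = iC (Wei B) (d.φ a) := liftC_iC _ _ _ _ a
theorem mC_z : d.mC (zC (Wei A)) = iC (Wei B) d.c * zC (Wei B) ^ d.n := liftC_z _ _ _ _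
theorem mC_w : d.mC (wC (Wei A)) = iC (Wei B) (d.c ^ 3) * wC (Wei B) ^ d.n := liftC_w _ _ _ _

theorem relL : (iL (Wei B) (d.c ^ 3) * wL (Wei B) ^ d.n) *
    algebraMap (RU (Wei B)) (RL (Wei B)) (iU (Wei B) d.c * yU (Wei B) ^ d.n) = 1 := by
  rw [map_mul (algebraMap (RU (Wei B)) (RL (Wei B))), map_pow (algebraMap (RU (Wei B)) (RL (Wei B)))]
  change (iL (Wei B) (d.c ^ 3) * wL (Wei B) ^ d.n) * (iL (Wei B) d.c * yL (Wei B) ^ d.n) = 1
  have h1 : (wL (Wei B) * yL (Wei B)) ^ d.n = 1 := by rw [wL_mul, one_pow]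
  have h3 : iL (Wei B) (d.c ^ 3) * iL (Wei B) d.c = 1 := by rw [← map_mul, ← pow_succ, d.hc, map_one]
  calc _ = (iL (Wei B) (d.c ^ 3) * iL (Wei B) d.c) * (wL (Wei B) * yL (Wei B)) ^ d.n := by ring
    _ = 1 := by rw [h1, h3, one_mul]

/-- the map on the intersection of the charts -/
noncomputable def mL : RL (Wei A) →+* RL (Wei B) :=
  liftL (Wei A) ((algebraMap (RU (Wei B)) (RL (Wei B))).comp ((iU (Wei B)).comp d.φ)) _ _
    (iL (Wei B) (d.c ^ 3) * wL (Wei B) ^ d.n) (wEq_map d.eqU (algebraMap (RU (Wei B)) (RL (Wei B)))) d.relL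

theorem mL_comp_alg : d.mL.comp (algebraMap (RU (Wei A)) (RL (Wei A))) =
    (algebraMap (RU (Wei B)) (RL (Wei B))).comp d.mU := by
  apply hom_ext_U
  · ext a
    change d.mL (iL (Wei A) a) = algebraMap (RU (Wei B)) (RL (Wei B)) (d.mU (iU (Wei A) a))
    rw [mU_i]
    exact liftL_i _ _ _ _ _ _ a
  · change d.mL (xL (Wei A)) = algebraMap (RU (Wei B)) (RL (Wei B)) (d.mU (xU (Wei A)))
    rw [mU_x]
    exact liftL_x _ _ _ _ _ _
  · change d.mL (yL (Wei A)) = algebraMap (RU (Wei B)) (RL (Wei B)) (d.mU (yU (Wei A)))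
    rw [mU_y]
    exact liftL_y _ _ _ _ _ _

theorem mL_z : d.mL (zL (Wei A)) = iL (Wei B) d.c * zL (Wei B) ^ d.n := by
  refine liftL_z _ _ _ _ _ _ ?_
  rw [map_mul (algebraMap (RU (Wei B)) (RL (Wei B))), map_pow (algebraMap (RU (Wei B)) (RL (Wei B))),
    map_mul (algebraMap (RU (Wei B)) (RL (Wei B))), map_pow (algebraMap (RU (Wei B)) (RL (Wei B))) (xU (Wei B))]
  change (iL (Wei B) d.c * zL (Wei B) ^ d.n) * (iL (Wei B) d.c * yL (Wei B) ^ d.n) =
    iL (Wei B) (d.c ^ 2) * xL (Wei B) ^ d.n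
  rw [← zL_mul, mul_pow, map_pow]
  ring

theorem mL_comp_resC : d.mL.comp (resC (Wei A)) = (resC (Wei B)).comp d.mC := by
  apply hom_ext_C
  · ext a
    change d.mL (resC (Wei A) (iC (Wei A) a)) = resC (Wei B) (d.mC (iC (Wei A) a))
    rw [mC_i, resC_i, resC_i]
    exact liftL_i _ _ _ _ _ _ a
  · change d.mL (resC (Wei A) (zC (Wei A))) = resC (Wei B) (d.mC (zC (Wei A)))
    rw [mC_z, resC_z, mL_z, map_mul, map_pow, resC_i, resC_z]
  · change d.mL (resC (Wei A) (wC (Wei A))) = resC (Wei B) (d.mC (wC (Wei A)))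
    rw [mC_w, resC_w, map_mul, map_pow (resC (Wei B)) (wC (Wei B)), resC_i, resC_w]
    exact liftL_w _ _ _ _ _ _

/-- The monomial morphism. -/
noncomputable def mor : E (Wei B) ⟶ E (Wei A) :=
  GlueTwo.desc (Spec.map (CommRingCat.ofHom d.mU) ≫ ιU (Wei A)) (Spec.map (CommRingCat.ofHom d.mC) ≫ ιC (Wei A)) (by
    have h1 : jU (Wei B) ≫ Spec.map (CommRingCat.ofHom d.mU) =
        Spec.map (CommRingCat.ofHom d.mL) ≫ jU (Wei A) := by
      rw [jU, jU, ← Spec.map_comp, ← Spec.map_comp, ← CommRingCat.ofHom_comp, ← CommRingCat.ofHom_comp,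
        mL_comp_alg]
    have h2 : jC (Wei B) ≫ Spec.map (CommRingCat.ofHom d.mC) =
        Spec.map (CommRingCat.ofHom d.mL) ≫ jC (Wei A) := by
      rw [jC, jC, ← Spec.map_comp, ← Spec.map_comp, ← CommRingCat.ofHom_comp, ← CommRingCat.ofHom_comp,
        mL_comp_resC]
    rw [reassoc_of% h1, reassoc_of% h2, jU_ιU])

@[reassoc]
theorem ιU_mor : ιU (Wei B) ≫ d.mor = Spec.map (CommRingCat.ofHom d.mU) ≫ ιU (Wei A) := GlueTwo.i₁_desc _ _ _

@[reassoc]
theorem ιC_mor : ιC (Wei B) ≫ d.mor = Spec.map (CommRingCat.ofHom d.mC) ≫ ιC (Wei A) := GlueTwo.i₂_desc _ _ _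

end Dat

/-- Morphisms from the Weierstrass model are determined by their restrictions to the two charts. -/
theorem hom_ext {A : Type u} [CommRing A] {W : WeierstrassCurve A} {Z : Scheme.{u}} {f g : E W ⟶ Z}
    (hU : ιU W ≫ f = ιU W ≫ g) (hC : ιC W ≫ f = ιC W ≫ g) : f = g := by
  refine (cover W).hom_ext _ _ ?_
  rintro (_ | _)
  · exact hU
  · exact hC

namespace Dat

variable {A B D : Type u} [CommRing A] [CommRing B] [CommRing D] (d : Dat A B) (e : Dat B D)

@[reassoc]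
theorem mor_str : d.mor ≫ str (Wei A) = str (Wei B) ≫ Spec.map (CommRingCat.ofHom d.φ) := by
  apply hom_ext
  · rw [ιU_mor_assoc, ιU_str, ιU_str_assoc, ← Spec.map_comp, ← Spec.map_comp, ← CommRingCat.ofHom_comp,
      ← CommRingCat.ofHom_comp]
    congr 2
    exact RingHom.ext fun a => d.mU_i a
  · rw [ιC_mor_assoc, ιC_str, ιC_str_assoc, ← Spec.map_comp, ← Spec.map_comp, ← CommRingCat.ofHom_comp,
      ← CommRingCat.ofHom_comp]
    congr 2
    exact RingHom.ext fun a => d.mC_i a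

/-- Composition of monomial morphisms. -/
def comp : Dat A D where
  φ := e.φ.comp d.φ
  n := e.n * d.n
  c := e.φ d.c * e.c ^ d.n
  good := e.good.mul (d.good.map e.φ)
  hc := by
    rw [mul_pow, ← map_pow, d.hc, map_one, one_mul, ← pow_mul, mul_comm, pow_mul, e.hc, one_pow]

@[reassoc]
theorem mor_comp : e.mor ≫ d.mor = (d.comp e).mor := by
  have hU : e.mU.comp d.mU = (d.comp e).mU := by
    apply hom_ext_U
    · ext a
      change e.mU (d.mU (iU (Wei A) a)) = (d.comp e).mU (iU (Wei A) a)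
      rw [mU_i, mU_i, mU_i]
      rfl
    · change e.mU (d.mU (xU (Wei A))) = (d.comp e).mU (xU (Wei A))
      rw [mU_x, mU_x, map_mul, mU_i, map_pow e.mU, mU_x]
      change iU (Wei D) (e.φ (d.c ^ 2)) * (iU (Wei D) (e.c ^ 2) * xU (Wei D) ^ e.n) ^ d.n =
        iU (Wei D) ((e.φ d.c * e.c ^ d.n) ^ 2) * xU (Wei D) ^ (e.n * d.n)
      simp only [map_mul, map_pow]
      ring
    · change e.mU (d.mU (yU (Wei A))) = (d.comp e).mU (yU (Wei A))
      rw [mU_y, mU_y, map_mul, mU_i, map_pow, mU_y, mul_pow, ← mul_assoc, ← map_pow, ← map_mul, ← pow_mul]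
      rfl
  have hC : e.mC.comp d.mC = (d.comp e).mC := by
    apply hom_ext_C
    · ext a
      change e.mC (d.mC (iC (Wei A) a)) = (d.comp e).mC (iC (Wei A) a)
      rw [mC_i, mC_i, mC_i]
      rfl
    · change e.mC (d.mC (zC (Wei A))) = (d.comp e).mC (zC (Wei A))
      rw [mC_z, mC_z, map_mul, mC_i, map_pow, mC_z, mul_pow, ← mul_assoc, ← map_pow, ← map_mul, ← pow_mul]
      rfl
    · change e.mC (d.mC (wC (Wei A))) = (d.comp e).mC (wC (Wei A))
      rw [mC_w, mC_w, map_mul, mC_i, map_pow e.mC, mC_w]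
      change iC (Wei D) (e.φ (d.c ^ 3)) * (iC (Wei D) (e.c ^ 3) * wC (Wei D) ^ e.n) ^ d.n =
        iC (Wei D) ((e.φ d.c * e.c ^ d.n) ^ 3) * wC (Wei D) ^ (e.n * d.n)
      simp only [map_mul, map_pow]
      ring
  apply hom_ext
  · rw [ιU_mor_assoc, ιU_mor, ιU_mor, ← hU, CommRingCat.ofHom_comp, Spec.map_comp, Category.assoc]
  · rw [ιC_mor_assoc, ιC_mor, ιC_mor, ← hC, CommRingCat.ofHom_comp, Spec.map_comp, Category.assoc]

/-- The identity. -/
def idD (A : Type u) [CommRing A] : Dat A A := ⟨RingHom.id A, 1, 1, Good.one, one_pow _⟩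

theorem mor_idD (A : Type u) [CommRing A] : (idD A).mor = 𝟙 _ := by
  have hU : (idD A).mU = RingHom.id _ := by
    apply hom_ext_U
    · ext a
      exact (idD A).mU_i a
    · exact ((idD A).mU_x).trans (by simp [idD])
    · exact ((idD A).mU_y).trans (by simp [idD])
  have hC : (idD A).mC = RingHom.id _ := by
    apply hom_ext_C
    · ext a
      exact (idD A).mC_i a
    · exact ((idD A).mC_z).trans (by simp [idD])
    · exact ((idD A).mC_w).trans (by simp [idD])
  apply hom_ext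
  · rw [ιU_mor, hU, CommRingCat.ofHom_id, Spec.map_id, Category.id_comp, Category.comp_id]
  · rw [ιC_mor, hC, CommRingCat.ofHom_id, Spec.map_id, Category.id_comp, Category.comp_id]

end Dat

/-- The zero section. -/
noncomputable def zeroSec (A : Type u) [CommRing A] : Spec (CommRingCat.of A) ⟶ E (Wei A) :=
  Spec.map (CommRingCat.ofHom (liftC (W := Wei A) (RingHom.id A) 0 0 ((wEqInf_iff _ _ _).mpr (by simp)))) ≫
    ιC (Wei A)

@[reassoc]
theorem zeroSec_str (A : Type u) [CommRing A] : zeroSec A ≫ str (Wei A) = 𝟙 _ := by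
  rw [zeroSec, Category.assoc, ιC_str, ← Spec.map_comp, ← CommRingCat.ofHom_comp, liftC_comp,
    CommRingCat.ofHom_id, Spec.map_id]

@[reassoc]
theorem zeroSec_mor {A B : Type u} [CommRing A] [CommRing B] (d : Dat A B) :
    zeroSec B ≫ d.mor = Spec.map (CommRingCat.ofHom d.φ) ≫ zeroSec A := by
  rw [zeroSec, zeroSec, Category.assoc, d.ιC_mor, ← Spec.map_comp_assoc, ← Spec.map_comp_assoc,
    ← CommRingCat.ofHom_comp, ← CommRingCat.ofHom_comp]
  congr 3
  apply hom_ext_C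
  · ext a
    simp only [RingHom.comp_apply, d.mC_i, liftC_iC, RingHom.id_apply]
  · simp only [RingHom.comp_apply, d.mC_z, map_mul, map_pow, liftC_z, zero_pow d.good.ne_zero, mul_zero, map_zero]
  · simp only [RingHom.comp_apply, d.mC_w, map_mul, map_pow, liftC_w, zero_pow d.good.ne_zero, mul_zero, map_zero]

/-- Base change of the curve. -/
def bcD {A B : Type u} [CommRing A] [CommRing B] (φ : A →+* B) : Dat A B := ⟨φ, 1, 1, Good.one, one_pow _⟩

theorem isPullback_aux {A B : Type u} [CommRing A] [CommRing B] (W : WeierstrassCurve A) (φ : A →+* B)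
    (W' : WeierstrassCurve B) (h : W.map φ = W') (f : E W' ⟶ E W) (gU : RU W →+* RU W') (gC : RC W →+* RC W')
    (hfU : ιU W' ≫ f = Spec.map (CommRingCat.ofHom gU) ≫ ιU W)
    (hfC : ιC W' ≫ f = Spec.map (CommRingCat.ofHom gC) ≫ ιC W)
    (hUi : ∀ a, gU (iU W a) = iU W' (φ a)) (hUx : gU (xU W) = xU W') (hUy : gU (yU W) = yU W')
    (hCi : ∀ a, gC (iC W a) = iC W' (φ a)) (hCz : gC (zC W) = zC W') (hCw : gC (wC W) = wC W') :
    IsPullback f (str W') (str W) (Spec.map (CommRingCat.ofHom φ)) := by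
  subst h
  have hU : gU = bU W φ := by
    apply hom_ext_U
    · ext a
      exact (hUi a).trans (bU_i W φ a).symm
    · exact hUx.trans (bU_x W φ).symm
    · exact hUy.trans (bU_y W φ).symm
  have hC : gC = bC W φ := by
    apply hom_ext_C
    · ext a
      exact (hCi a).trans (bC_i W φ a).symm
    · exact hCz.trans (bC_z W φ).symm
    · exact hCw.trans (bC_w W φ).symm
  have hf : f = bc W φ := by
    apply hom_ext
    · rw [hfU, hU, ιU_bc]
    · rw [hfC, hC, ιC_bc]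
  rw [hf]
  exact isPullback_bc W φ

/-- The square of `bcD φ` is cartesian. -/
theorem isPullback_bcD {A B : Type u} [CommRing A] [CommRing B] (φ : A →+* B) :
    IsPullback (bcD φ).mor (str (Wei B)) (str (Wei A)) (Spec.map (CommRingCat.ofHom φ)) := by
  refine isPullback_aux (Wei A) φ (Wei B) (wei_map φ) _ _ _ (bcD φ).ιU_mor (bcD φ).ιC_mor (bcD φ).mU_i ?_ ?_
    (bcD φ).mC_i ?_ ?_
  · exact ((bcD φ).mU_x).trans (by simp [bcD])
  · exact ((bcD φ).mU_y).trans (by simp [bcD])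
  · exact ((bcD φ).mC_z).trans (by simp [bcD])
  · exact ((bcD φ).mC_w).trans (by simp [bcD])

end K869.EllMap
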