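import Mathlib.FieldTheory.PrimitiveElement
import Mathlib.FieldTheory.Finite.GaloisField
import Mathlib.FieldTheory.IsAlgClosed.Basic
import Mathlib.FieldTheory.Normal.Defs
import Mathlib.RingTheory.Artinian.Ring

/-!
# Finite algebras over a finite field: homomorphisms to an algebraically closed field

* `finrank_le_card`: a reduced finite algebra `C` over a finite (perfect) field `k` has at least `[C : k]`
  homomorphisms to an algebraically closed field.
* `exists_pow`: an automorphism of the algebraically closed field acts on the image of `C` as a power of Frobenius.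
-/

set_option autoImplicit false

universe u

namespace K869.GetAlg

open Module

theorem finrank_le_card (k Ω C : Type u) [Field k] [PerfectField k] [Field Ω] [Algebra k Ω] [IsAlgClosed Ω]
    [CommRing C] [Algebra k C] [Module.Finite k C] [IsReduced C] :
    finrank k C ≤ Nat.card (C →ₐ[k] Ω) := by
  classical
  have hart : IsArtinianRing C := IsArtinianRing.of_finite k C
  have hfin : Finite (MaximalSpectrum C) := inferInstance
  have := Fintype.ofFinite (MaximalSpectrum C)
  let e := IsArtinianRing.equivPi C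
  let e' : C ≃ₗ[k] (∀ I : MaximalSpectrum C, C ⧸ I.asIdeal) :=
    { e with
      map_smul' := fun r x => by
        ext I
        rfl }
  have h1 : finrank k C = ∑ I : MaximalSpectrum C, finrank k (C ⧸ I.asIdeal) := by
    rw [e'.finrank_eq, finrank_pi_fintype]
  let g : (Σ I : MaximalSpectrum C, ((C ⧸ I.asIdeal) →ₐ[k] Ω)) → (C →ₐ[k] Ω) :=
    fun x => x.2.comp (Ideal.Quotient.mkₐ k x.1.asIdeal)
  have hker : ∀ x, RingHom.ker (g x) = x.1.asIdeal := by
    rintro ⟨I, f⟩
    let _ : Field (C ⧸ I.asIdeal) := Ideal.Quotient.field I.asIdeal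
    ext c
    rw [RingHom.mem_ker]
    change f (Ideal.Quotient.mk I.asIdeal c) = 0 ↔ _
    rw [map_eq_zero_iff f f.injective, Ideal.Quotient.eq_zero_iff_mem]
  have hg : Function.Injective g := by
    intro x y hxy
    have h2 : x.1 = y.1 := by
      ext1
      rw [← hker x, ← hker y, hxy]
    obtain ⟨I, f⟩ := x
    obtain ⟨J, f'⟩ := y
    subst h2
    congr 1
    ext c
    obtain ⟨c, rfl⟩ := Ideal.Quotient.mk_surjective c
    exact DFunLike.congr_fun hxy c
  have hf : ∀ I : MaximalSpectrum C, Finite ((C ⧸ I.asIdeal) →ₐ[k] Ω) := fun I => inferInstance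
  have h2 : Nat.card (Σ I : MaximalSpectrum C, ((C ⧸ I.asIdeal) →ₐ[k] Ω)) =
      ∑ I : MaximalSpectrum C, finrank k (C ⧸ I.asIdeal) := by
    rw [Nat.card_sigma]
    refine Finset.sum_congr rfl fun I _ => ?_
    let _ : Field (C ⧸ I.asIdeal) := Ideal.Quotient.field I.asIdeal
    rw [← AlgHom.card k (C ⧸ I.asIdeal) Ω]
    exact Nat.card_eq_fintype_card
  have hf' : Finite (C →ₐ[k] Ω) := inferInstance
  rw [h1, ← h2]
  exact Nat.card_le_card_of_injective g hg

theorem exists_pow {k Ω C : Type u} [Field k] [Finite k] [Field Ω] [Algebra k Ω]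
    [CommRing C] [Algebra k C] [Module.Finite k C] (ψ : C →ₐ[k] Ω) (σ : Ω ≃ₐ[k] Ω) :
    ∃ m : ℕ, ∀ c, σ (ψ c) = (ψ c) ^ (Nat.card k ^ m) := by
  have := Fintype.ofFinite k
  have h1 : Module.Finite k ψ.range := Module.Finite.of_surjective ψ.rangeRestrict.toLinearMap
    (AlgHom.rangeRestrict_surjective ψ)
  have h2 : Finite ψ.range := Module.finite_of_finite k
  have h3 : IsField ψ.range := Finite.isField_of_domain _
  let F : IntermediateField k Ω := Subalgebra.toIntermediateField' ψ.range h3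
  have h4 : Finite F := h2
  let τ := σ.restrictNormal F
  obtain ⟨m, hm⟩ := (FiniteField.bijective_frobeniusAlgHom_pow k F).2 (τ : F →ₐ[k] F)
  refine ⟨m.1, fun c => ?_⟩
  have hc : ψ c ∈ F := ⟨c, rfl⟩
  have h5 := AlgEquiv.restrictNormal_commutes σ F ⟨ψ c, hc⟩
  have h6 := DFunLike.congr_fun hm ⟨ψ c, hc⟩
  have h7 : ((FiniteField.frobeniusAlgHom k F ^ m.1) ⟨ψ c, hc⟩ : F) = ⟨ψ c, hc⟩ ^ (Fintype.card k ^ m.1) := by
    rw [AlgHom.coe_pow, FiniteField.coe_frobeniusAlgHom, pow_iterate]
  have h8 : τ ⟨ψ c, hc⟩ = ⟨ψ c, hc⟩ ^ (Fintype.card k ^ m.1) := by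
    rw [← h7]
    exact h6.symm
  have h9 : σ (ψ c) = algebraMap F Ω (τ ⟨ψ c, hc⟩) := h5.symm
  rw [h9, h8, Nat.card_eq_fintype_card]
  rfl

theorem isReduced_of_pow {C : Type u} [CommRing C] (q : ℕ) (hq : 1 < q) (h : ∀ c : C, c ^ q = 0 → c = 0) :
    IsReduced C := by
  have h1 : ∀ m (c : C), c ^ (q ^ m) = 0 → c = 0 := by
    intro m
    induction m with
    | zero => intro c hc; rwa [pow_zero, pow_one] at hc
    | succ m ih =>
      intro c hc
      rw [pow_succ, pow_mul] at hc
      exact ih c (h _ hc)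
  refine ⟨fun c hc => ?_⟩
  obtain ⟨n, hn⟩ := hc
  refine h1 n c ?_
  exact pow_eq_zero_of_le (Nat.lt_pow_self hq).le hn

end K869.GetAlg
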